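import Groth.Prelude.Def_AnFib
import Groth.Agent.VarietyB.CurveDichotomy
import Groth.Agent.VarietyB.CurveClosure
import Groth.Agent.VarietyB.ProjSpaceProper
import Groth.Agent.Flat2B.SmoothGeom

/-!
# Geometric fibres of an elementary fibration

Let `f : X ⟶ S` be an elementary fibration, `K` an algebraically closed field and
`s : Spec K ⟶ S`. The fibre `X_s` is an affine integral scheme, smooth over `K`, of dimension at
most one and not finite over `K`.
-/

set_option autoImplicit false
universe u

open CategoryTheory CategoryTheory.Limits AlgebraicGeometry TopologicalSpace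

namespace Groth.Agent.An.H898.Fibre

theorem isProper_toBase (n : ℕ) (S : Scheme.{u}) : IsProper (CohB1.ProjSpaceOver.toBase n S) := by
  have h : IsProper (CohB1.ProjSpace.toSpec n (ULift.{u} ℤ)) :=
    Groth.Agent.VarietyB.ProjSpaceProper.isProper_toSpec n _
  exact MorphismProperty.pullback_snd _ _ h

theorem isProper_of_isStronglyProjective {X S : Scheme.{u}} {f : X ⟶ S}
    (h : An.IsStronglyProjective f) : IsProper f := by
  obtain ⟨n, c, hc, rfl⟩ := h
  have h1 := isProper_toBase n S
  infer_instance

/-- An elementary fibration is smooth. -/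
theorem smooth {X S : Scheme.{u}} {f : X ⟶ S} (hf : An.IsElementaryFibration f) : Smooth f := by
  obtain ⟨Xb, Y, j, fb, i, rfl, hj, hi, hc, hd, hsm, hp, hg, h1, h2, h3⟩ := hf
  infer_instance

/-- An elementary fibration is surjective. -/
theorem surjective {X S : Scheme.{u}} {f : X ⟶ S} (hf : An.IsElementaryFibration f) :
    Function.Surjective f.base := by
  obtain ⟨Xb, Y, j, fb, i, rfl, hj, hi, hc, hd, hsm, hp, hg, h1, h2, h3⟩ := hf
  intro s
  obtain ⟨y, hy⟩ := h3 s
  have h4 : i.base y ∈ fb.base ⁻¹' {s} := by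
    simp only [Set.mem_preimage, Set.mem_singleton_iff]
    rw [← hy]; rfl
  have h5 := hd s h4
  have h6 : (Set.range j.base ∩ fb.base ⁻¹' {s}).Nonempty := by
    rw [← closure_nonempty_iff]; exact ⟨_, h5⟩
  obtain ⟨_, ⟨x, rfl⟩, hx⟩ := h6
  exact ⟨x, hx⟩

/-- The compactification of the geometric fibres of an elementary fibration. -/
theorem exists_compactification {X S : Scheme.{u}} {f : X ⟶ S}
    (hf : An.IsElementaryFibration f) (K : Type u) [Field K] [IsAlgClosed K]
    (s : Spec (CommRingCat.of K) ⟶ S) :
    ∃ (Z : Scheme.{u}) (π : Z ⟶ Spec (CommRingCat.of K)) (j : pullback f s ⟶ Z),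
      IsProper π ∧ Smooth π ∧ IrreducibleSpace Z ∧ topologicalKrullDim Z = 1 ∧
      IsOpenImmersion j ∧ j ≫ π = pullback.snd f s ∧ Nonempty ↥(pullback f s) ∧
      ∃ p : Z, p ∉ Set.range j.base := by
  have hsurj := surjective hf
  obtain ⟨Xb, Y, j, fb, i, rfl, hj, hi, hc, hd, hsm, hp, hg, h1, h2, h3⟩ := hf
  have hprop := isProper_of_isStronglyProjective hp
  obtain ⟨hirr, hdim⟩ := hg K s
  let js : pullback (j ≫ fb) s ⟶ pullback fb s :=
    pullback.lift (pullback.fst (j ≫ fb) s ≫ j) (pullback.snd (j ≫ fb) s) (by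
      rw [Category.assoc]; exact pullback.condition)
  have hsq : IsPullback (pullback.fst (j ≫ fb) s) js j (pullback.fst fb s) := by
    refine IsPullback.of_bot (h₃₁ := s) (v₂₁ := pullback.snd fb s) (v₂₂ := fb) ?_ ?_ ?_
    · have : js ≫ pullback.snd fb s = pullback.snd (j ≫ fb) s := pullback.lift_snd _ _ _
      rw [this]
      exact IsPullback.of_hasPullback (j ≫ fb) s
    · exact (pullback.lift_fst _ _ _).symm
    · exact IsPullback.of_hasPullback fb s
  have hjs : IsOpenImmersion js := MorphismProperty.of_isPullback hsq hj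
  let pt : ↥(Spec (CommRingCat.of K)) := IsLocalRing.closedPoint K
  refine ⟨pullback fb s, pullback.snd fb s, js, inferInstance, inferInstance, hirr, hdim, hjs,
    pullback.lift_snd _ _ _, ?_, ?_⟩
  · obtain ⟨x, hx⟩ := hsurj (s.base pt)
    obtain ⟨z, -⟩ := Scheme.Pullback.exists_preimage_pullback (f := j ≫ fb) (g := s) x pt hx
    exact ⟨z⟩
  · obtain ⟨y, hy⟩ := h3 (s.base pt)
    obtain ⟨z, hz, -⟩ := Scheme.Pullback.exists_preimage_pullback (f := fb) (g := s) (i y) pt hy
    refine ⟨z, ?_⟩
    rintro ⟨q, rfl⟩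
    have h4 : i.base y ∈ Set.range j.base := by
      refine ⟨(pullback.fst (j ≫ fb) s).base q, ?_⟩
      have h5 : (pullback.fst (j ≫ fb) s ≫ j).base q = (js ≫ pullback.fst fb s).base q := by
        rw [hsq.w]
      exact h5.trans hz
    rw [hc] at h4
    exact h4 ⟨y, rfl⟩

section

variable {X S : Scheme.{u}} {f : X ⟶ S} (hf : An.IsElementaryFibration f) (K : Type u) [Field K]
  [IsAlgClosed K] (s : Spec (CommRingCat.of K) ⟶ S)

include hf

omit [IsAlgClosed K] in
theorem smooth_snd : Smooth (pullback.snd f s) := by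
  have := smooth hf
  infer_instance

theorem irreducibleSpace : IrreducibleSpace ↥(pullback f s) := by
  obtain ⟨Z, π, j, h1, h2, h3, h4, h5, h6, h7, h8⟩ := exists_compactification hf K s
  exact j.isOpenEmbedding.irreducibleSpace

theorem isIntegral : IsIntegral (pullback f s) := by
  have h1 := irreducibleSpace hf K s
  have h2 := smooth_snd hf K s
  have h3 : IsReduced (pullback f s) :=
    Groth.Agent.Flat2B.SmoothGeom.isReduced_of_smooth (pullback.snd f s)
  exact isIntegral_of_irreducibleSpace_of_isReduced _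

theorem topologicalKrullDim_le : topologicalKrullDim ↥(pullback f s) ≤ 1 := by
  obtain ⟨Z, π, j, h1, h2, h3, h4, h5, h6, h7, h8⟩ := exists_compactification hf K s
  rw [← h4]
  exact j.isOpenEmbedding.isInducing.topologicalKrullDim_le

theorem isSeparated_snd : IsSeparated (pullback.snd f s) := by
  obtain ⟨Z, π, j, h1, h2, h3, h4, h5, h6, h7, h8⟩ := exists_compactification hf K s
  rw [← h6]
  infer_instance

theorem isAffine : IsAffine (pullback f s) := by
  have hirr := irreducibleSpace hf K s
  have hdim := topologicalKrullDim_le hf K s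
  obtain ⟨Z, π, j, h1, h2, h3, h4, h5, h6, h7, p, hp⟩ := exists_compactification hf K s
  have hdense : DenseRange j := by
    exact j.isOpenEmbedding.isOpen_range.dense (Set.range_nonempty _)
  have hdom : IsDominant j := ⟨hdense⟩
  obtain ⟨hfin, hclp⟩ :=
    Groth.Agent.VarietyB.CurveClosure.finite_compl_of_dim_le_one K π j hdim
  exact Groth.Agent.VarietyB.CurveDichotomy.isAffine_of_not_surjective K π hdim j hdense hfin hclp
    p hp

/-- The geometric fibres are not finite. -/
theorem not_isFinite_snd : ¬ IsFinite (pullback.snd f s) := by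
  intro hfin
  obtain ⟨Z, π, j, h1, h2, h3, h4, h5, h6, h7, p, hp⟩ := exists_compactification hf K s
  have hpr : IsProper (j ≫ π) := by rw [h6]; infer_instance
  have hj : IsProper j := IsProper.of_comp j π
  have hcl : IsClosed (Set.range j) := j.isClosedMap.isClosed_range
  have hop : IsOpen (Set.range j) := j.isOpenEmbedding.isOpen_range
  have hcc : IsClopen (Set.range j) := ⟨hcl, hop⟩
  have h8 := hcc.eq_univ (Set.range_nonempty _)
  exact hp (by
    have : p ∈ Set.range j := by rw [h8]; trivial
    exact this)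

end

end Groth.Agent.An.H898.Fibre
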