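import Mathlib.GroupTheory.FreeGroup.IsFreeGroup
import Mathlib.GroupTheory.Finiteness
import Mathlib.GroupTheory.QuotientGroup.Basic
import Mathlib.Data.Fin.Tuple.Basic

/-!
# Successive extensions of finitely generated free groups
-/

set_option autoImplicit false

namespace Groth.Agent.An.H898.GroupExt

/-- A group which is free and finitely generated. -/
def FF (G : Type*) [Group G] : Prop := IsFreeGroup G ∧ Group.FG G

lemma FF.of_mulEquiv {G H : Type*} [Group G] [Group H] (e : G ≃* H) (h : FF G) : FF H := by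
  obtain ⟨h1, h2⟩ := h
  exact ⟨IsFreeGroup.ofMulEquiv e, Group.fg_of_surjective (f := e.toMonoidHom) e.surjective⟩

/-- A group is a successive extension of finitely generated free groups. -/
def PolyFree (G : Type*) [Group G] : Prop :=
  ∃ (m : ℕ) (N : Fin (m + 1) → Subgroup G),
      N 0 = ⊤ ∧ N (Fin.last m) = ⊥ ∧
      ∀ i : Fin m, N i.succ ≤ N i.castSucc ∧
        ∃ _ : ((N i.succ).subgroupOf (N i.castSucc)).Normal,
          IsFreeGroup (↥(N i.castSucc) ⧸ (N i.succ).subgroupOf (N i.castSucc)) ∧
          Group.FG (↥(N i.castSucc) ⧸ (N i.succ).subgroupOf (N i.castSucc))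

lemma polyFree_of_subsingleton (G : Type*) [Group G] [Subsingleton G] : PolyFree G :=
  ⟨0, fun _ => ⊤, rfl, Subsingleton.elim _ _, fun i => i.elim0⟩

/-- The step condition in a chain. -/
def Step {G : Type*} [Group G] (H K : Subgroup G) : Prop :=
  H ≤ K ∧ ∃ _ : (H.subgroupOf K).Normal,
    IsFreeGroup (↥K ⧸ H.subgroupOf K) ∧ Group.FG (↥K ⧸ H.subgroupOf K)

/-- A step pulls back along a surjection. -/
lemma Step.comap {G Q : Type*} [Group G] [Group Q] (q : G →* Q) (hq : Function.Surjective q)
    {H K : Subgroup Q} (h : Step H K) : Step (H.comap q) (K.comap q) := by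
  obtain ⟨hle, hn, hf, hg⟩ := h
  let ψ : ↥(K.comap q) →* ↥K ⧸ H.subgroupOf K :=
    (QuotientGroup.mk' (H.subgroupOf K)).comp (q.subgroupComap K)
  have hψ : Function.Surjective ψ := by
    refine (QuotientGroup.mk'_surjective _).comp ?_
    rintro ⟨k, hk⟩
    obtain ⟨g, rfl⟩ := hq k
    exact ⟨⟨g, hk⟩, rfl⟩
  have hker : ψ.ker = (H.comap q).subgroupOf (K.comap q) := by
    ext ⟨g, hg'⟩
    rw [MonoidHom.mem_ker]
    change (QuotientGroup.mk' (H.subgroupOf K)) _ = 1 ↔ _
    rw [← MonoidHom.mem_ker, QuotientGroup.ker_mk', Subgroup.mem_subgroupOf,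
      Subgroup.mem_subgroupOf, Subgroup.mem_comap]
    rfl
  have hnorm : ((H.comap q).subgroupOf (K.comap q)).Normal := by
    rw [← hker]; infer_instance
  refine ⟨Subgroup.comap_mono hle, hnorm, ?_⟩
  have e : (↥(K.comap q) ⧸ (H.comap q).subgroupOf (K.comap q)) ≃* ↥K ⧸ H.subgroupOf K :=
    (QuotientGroup.quotientMulEquivOfEq hker.symm).trans
      (QuotientGroup.quotientKerEquivOfSurjective ψ hψ)
  exact FF.of_mulEquiv e.symm ⟨hf, hg⟩

/-- The last step: the trivial subgroup in a finitely generated free subgroup. -/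
lemma step_bot {G : Type*} [Group G] (K : Subgroup G) (h : FF K) : Step ⊥ K := by
  have hb : (⊥ : Subgroup G).subgroupOf K = ⊥ := Subgroup.bot_subgroupOf K
  have hn : ((⊥ : Subgroup G).subgroupOf K).Normal := by rw [hb]; infer_instance
  refine ⟨bot_le, hn, ?_⟩
  have e : K ≃* (↥K ⧸ (⊥ : Subgroup G).subgroupOf K) :=
    (QuotientGroup.quotientBot (G := K)).symm.trans (QuotientGroup.quotientMulEquivOfEq hb.symm)
  exact FF.of_mulEquiv e h

/-- An extension of a successive extension of finitely generated free groups by a finitely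
generated free group. -/
theorem PolyFree.of_surjective {G Q : Type*} [Group G] [Group Q] (q : G →* Q)
    (hq : Function.Surjective q) (hker : FF q.ker) (h : PolyFree Q) : PolyFree G := by
  obtain ⟨m, N, h0, hl, hs⟩ := h
  let N' : Fin (m + 1 + 1) → Subgroup G := Fin.snoc (fun i => (N i).comap q) ⊥
  have hc : ∀ i : Fin (m + 1), N' i.castSucc = (N i).comap q := fun i => by
    simp [N']
  have hlast : N' (Fin.last (m + 1)) = ⊥ := by simp [N']
  refine ⟨m + 1, N', ?_, hlast, fun i => ?_⟩
  · have : (0 : Fin (m + 1 + 1)) = (0 : Fin (m + 1)).castSucc := rfl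
    rw [this, hc, h0, Subgroup.comap_top]
  · change Step (N' i.succ) (N' i.castSucc)
    rw [hc]
    induction i using Fin.lastCases with
    | last =>
      have : (Fin.last m).succ = Fin.last (m + 1) := rfl
      rw [this, hlast, hl]
      exact step_bot _ hker
    | cast i =>
      rw [Fin.succ_castSucc, hc]
      exact Step.comap q hq (hs i)

/-- Successive extensions of finitely generated free groups are invariant under isomorphism. -/
theorem PolyFree.of_mulEquiv {G H : Type*} [Group G] [Group H] (e : G ≃* H) (h : PolyFree G) :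
    PolyFree H := by
  obtain ⟨m, N, h0, hl, hs⟩ := h
  refine ⟨m, fun i => (N i).comap e.symm.toMonoidHom, ?_, ?_, fun i => ?_⟩
  · simp only [h0, Subgroup.comap_top]
  · simp only [hl]
    exact (MonoidHom.ker_eq_bot_iff e.symm.toMonoidHom).2 e.symm.injective
  · exact Step.comap e.symm.toMonoidHom e.symm.surjective (hs i)

end Groth.Agent.An.H898.GroupExt
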