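import Mathlib.AlgebraicTopology.FundamentalGroupoid.FundamentalGroup
import Mathlib.Topology.Homotopy.HomotopyGroup
import Groth.Agent.An.H898.GroupExt

/-!
# The exact sequence of fundamental groups of a fibration

For a map `p : E → B` with the relative homotopy lifting property (stationary points stay
stationary): surjectivity of `π₁(E) → π₁(B)` for path connected fibre, exactness at `π₁(E)` and
injectivity of `π₁(F) → π₁(E)` if `π₂(B)` is trivial.
-/

set_option autoImplicit false

open unitInterval Topology

noncomputable section

namespace Groth.Agent.An.H898.PiOne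

open Groth.Agent.An.H898.GroupExt

/-- The relative homotopy lifting property for compact metric spaces: a homotopy in the base with a
lift of its start lifts, and points at which the homotopy is stationary stay stationary. -/
def RelLift {E B : Type} [TopologicalSpace E] [TopologicalSpace B] (p : C(E, B)) : Prop :=
  ∀ (K : Type) [MetricSpace K] [CompactSpace K] (C : Set K) (a : C(K, E)) (G : C(I × K, B)),
    (∀ k, G (0, k) = p (a k)) → (∀ k ∈ C, ∀ t, G (t, k) = p (a k)) →
    ∃ H : C(I × K, E), (∀ x, p (H x) = G x) ∧ (∀ k, H (0, k) = a k) ∧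
      (∀ k ∈ C, ∀ t, H (t, k) = a k)

variable {E B : Type} [TopologicalSpace E] [TopologicalSpace B] {p : C(E, B)}

/-- The inclusion of the fibre. -/
def incl (p : C(E, B)) (b : B) : C(↥(p ⁻¹' {b}), E) := ⟨Subtype.val, continuous_subtype_val⟩

/-- The base point in the fibre. -/
def base (p : C(E, B)) (e : E) : ↥(p ⁻¹' {p e}) := ⟨e, rfl⟩

/-- A loop in the fibre as a loop in the total space. -/
def valPath {e : E} (δ : Path (base p e) (base p e)) : Path e e where
  toFun t := (δ t).1
  continuous_toFun := continuous_subtype_val.comp δ.continuous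
  source' := congrArg Subtype.val δ.source
  target' := congrArg Subtype.val δ.target

/-- The map on fundamental groups induced by the inclusion of the fibre. -/
def inclMap (p : C(E, B)) (e : E) :
    FundamentalGroup ↥(p ⁻¹' {p e}) (base p e) →* FundamentalGroup E e :=
  FundamentalGroup.map (incl p (p e)) (base p e)

lemma inclMap_mk (e : E) (δ : Path (base p e) (base p e)) :
    inclMap p e (FundamentalGroup.fromPath (Path.Homotopic.Quotient.mk δ)) =
      FundamentalGroup.fromPath (Path.Homotopic.Quotient.mk (valPath δ)) := rfl

lemma map_mk (e : E) (γ : Path e e) :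
    FundamentalGroup.map p e (FundamentalGroup.fromPath (Path.Homotopic.Quotient.mk γ)) =
      FundamentalGroup.fromPath (Path.Homotopic.Quotient.mk (γ.map p.continuous)) := rfl

lemma fromPath_eq_one_iff {X : Type} [TopologicalSpace X] {x : X} (γ : Path x x) :
    FundamentalGroup.fromPath (Path.Homotopic.Quotient.mk γ) = 1 ↔
      γ.Homotopic (Path.refl x) := by
  change Path.Homotopic.Quotient.mk γ = Path.Homotopic.Quotient.mk (Path.refl x) ↔ _
  rw [Path.Homotopic.Quotient.eq]

lemma exists_rep {X : Type} [TopologicalSpace X] {x : X} (γ : FundamentalGroup X x) :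
    ∃ δ : Path x x, γ = FundamentalGroup.fromPath (Path.Homotopic.Quotient.mk δ) := by
  induction γ using Quotient.inductionOn with
  | _ γ => exact ⟨γ, rfl⟩

theorem surjective_map (h : RelLift p) (e : E) (hF : PathConnectedSpace ↥(p ⁻¹' {p e})) :
    Function.Surjective (FundamentalGroup.map p e) := by
  intro β
  induction β using Quotient.inductionOn with
  | _ β =>
  obtain ⟨H, H1, H2, -⟩ := h PUnit.{1} ∅ (ContinuousMap.const _ e)
    ⟨fun x => β x.1, β.continuous.comp continuous_fst⟩ (fun _ => by simp) (by simp)
  have hend : p (H (1, PUnit.unit)) = p e := by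
    rw [H1]
    exact β.target
  let β' : Path e (H (1, PUnit.unit)) :=
    { toFun := fun t => H (t, PUnit.unit)
      continuous_toFun := H.continuous.comp (continuous_id.prodMk continuous_const)
      source' := H2 _
      target' := rfl }
  obtain ⟨δ⟩ := hF.joined ⟨H (1, PUnit.unit), hend⟩ (base p e)
  let δ' : Path (H (1, PUnit.unit)) e := δ.map continuous_subtype_val
  refine ⟨FundamentalGroup.fromPath (Path.Homotopic.Quotient.mk (β'.trans δ')), ?_⟩
  change Path.Homotopic.Quotient.mk ((β'.trans δ').map p.continuous) =
    Path.Homotopic.Quotient.mk β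
  rw [Path.Homotopic.Quotient.eq, Path.map_trans]
  have h1 : (β'.map p.continuous) = β.cast rfl hend := by
    ext t
    exact H1 _
  have h2 : (δ'.map p.continuous) = (Path.refl (p e)).cast hend rfl := by
    ext t
    exact (δ t).2
  rw [h1, h2]
  have h3 : (β.cast rfl hend).trans ((Path.refl (p e)).cast hend rfl) = β.trans (Path.refl _) := by
    ext t
    simp [Path.trans_apply]
  rw [h3]
  exact ⟨Path.Homotopy.transRefl β⟩

theorem range_eq_ker (h : RelLift p) (e : E) :
    (inclMap p e).range = (FundamentalGroup.map p e).ker := by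
  ext γ
  constructor
  · rintro ⟨δ, rfl⟩
    obtain ⟨δ, rfl⟩ := exists_rep δ
    rw [MonoidHom.mem_ker, inclMap_mk, map_mk, fromPath_eq_one_iff]
    have : (valPath δ).map p.continuous = Path.refl (p e) := by
      ext t
      exact (δ t).2
    rw [this]
  · intro hγ
    rw [MonoidHom.mem_ker] at hγ
    obtain ⟨γ, rfl⟩ := exists_rep γ
    rw [map_mk, fromPath_eq_one_iff] at hγ
    obtain ⟨G⟩ := hγ
    obtain ⟨H, H1, H2, H3⟩ := h I {0, 1} γ.toContinuousMap G.toContinuousMap
      (fun k => by
        change G (0, k) = _
        rw [G.apply_zero]; rfl)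
      (fun k hk t => by
        change G (t, k) = _
        rw [G.eq_fst t hk]; rfl)
    have hfib : ∀ k, p (H (1, k)) = p e := by
      intro k
      rw [H1]
      change G (1, k) = _
      rw [G.apply_one]; rfl
    have hs : H (1, 0) = e := by
      rw [H3 0 (by simp) 1]
      exact γ.source
    have ht : H (1, 1) = e := by
      rw [H3 1 (by simp) 1]
      exact γ.target
    let δ : Path (base p e) (base p e) :=
      { toFun := fun k => ⟨H (1, k), hfib k⟩
        continuous_toFun := (H.continuous.comp (continuous_const.prodMk continuous_id)).subtype_mk _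
        source' := Subtype.ext hs
        target' := Subtype.ext ht }
    refine ⟨FundamentalGroup.fromPath (Path.Homotopic.Quotient.mk δ), ?_⟩
    rw [inclMap_mk]
    change Path.Homotopic.Quotient.mk (valPath δ) = Path.Homotopic.Quotient.mk γ
    rw [Path.Homotopic.Quotient.eq]
    refine Path.Homotopic.symm ⟨?_⟩
    exact
      { toFun := H
        continuous_toFun := H.continuous
        map_zero_left := H2
        map_one_left := fun k => rfl
        prop' := fun t k hk => H3 k hk t }

theorem injective_map (h : RelLift p) (e : E)
    (hB : Subsingleton (HomotopyGroup (Fin 2) B (p e))) :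
    Function.Injective (inclMap p e) := by
  rw [injective_iff_map_eq_one]
  intro γ hγ
  obtain ⟨γ, rfl⟩ := exists_rep γ
  rw [inclMap_mk, fromPath_eq_one_iff] at hγ
  obtain ⟨G⟩ := hγ
  rw [fromPath_eq_one_iff]
  -- the homotopy as a map on the square
  let a : C((Fin 2 → I), E) :=
    ⟨fun y => G (y 0, y 1), G.continuous.comp (by fun_prop)⟩
  have ha : ∀ y ∈ Cube.boundary (Fin 2), p (a y) = p e := by
    rintro y ⟨i, hi⟩
    fin_cases i
    · rcases hi with hi | hi
      · change p (G (y 0, y 1)) = p e
        have : y 0 = 0 := hi
        rw [this, G.apply_zero]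
        exact (γ (y 1)).2
      · change p (G (y 0, y 1)) = p e
        have : y 0 = 1 := hi
        rw [this, G.apply_one]
        rfl
    · have h1 : y 1 ∈ ({0, 1} : Set I) := by
        rcases hi with hi | hi
        · left; exact hi
        · right; exact hi
      change p (G (y 0, y 1)) = p e
      rw [G.eq_fst _ h1]
      exact (γ (y 1)).2
  let L : GenLoop (Fin 2) B (p e) := ⟨p.comp a, ha⟩
  have hL : GenLoop.Homotopic L GenLoop.const :=
    Quotient.exact (Subsingleton.elim (α := HomotopyGroup (Fin 2) B (p e)) (Quotient.mk _ L)
      (Quotient.mk _ GenLoop.const))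
  obtain ⟨K⟩ := hL
  obtain ⟨H, H1, H2, H3⟩ := h (Fin 2 → I) (Cube.boundary (Fin 2)) a K.toContinuousMap
    (fun k => by
      change K (0, k) = _
      rw [K.apply_zero]; rfl)
    (fun k hk t => by
      change K (t, k) = _
      rw [K.eq_fst t hk]; rfl)
  have hfib : ∀ k, p (H (1, k)) = p e := by
    intro k
    rw [H1]
    change K (1, k) = _
    rw [K.apply_one]; rfl
  have hb : ∀ (s t : I), (s = 0 ∨ s = 1 ∨ t = 0 ∨ t = 1) → H (1, ![s, t]) = G (s, t) := by
    intro s t hst
    have hmem : (![s, t] : Fin 2 → I) ∈ Cube.boundary (Fin 2) := by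
      rcases hst with h | h | h | h
      · exact ⟨0, Or.inl (by simpa using h)⟩
      · exact ⟨0, Or.inr (by simpa using h)⟩
      · exact ⟨1, Or.inl (by simpa using h)⟩
      · exact ⟨1, Or.inr (by simpa using h)⟩
    rw [H3 _ hmem 1]
    rfl
  refine ⟨?_⟩
  exact
    { toFun := fun x => ⟨H (1, ![x.1, x.2]), hfib _⟩
      continuous_toFun := by
        refine (H.continuous.comp (continuous_const.prodMk ?_)).subtype_mk _
        refine continuous_pi fun i => ?_
        fin_cases i
        · exact continuous_fst
        · exact continuous_snd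
      map_zero_left := fun t => by
        refine Subtype.ext ?_
        change H (1, ![0, t]) = _
        rw [hb 0 t (Or.inl rfl), G.apply_zero]
        rfl
      map_one_left := fun t => by
        refine Subtype.ext ?_
        change H (1, ![1, t]) = _
        rw [hb 1 t (Or.inr (Or.inl rfl)), G.apply_one]
        rfl
      prop' := fun s t ht => by
        refine Subtype.ext ?_
        change H (1, ![s, t]) = _
        rw [hb s t (by
          rcases ht with ht | ht
          · exact Or.inr (Or.inr (Or.inl ht))
          · exact Or.inr (Or.inr (Or.inr ht))), G.eq_fst s ht]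
        rfl }

/-- The kernel of `π₁(E) → π₁(B)` is the fundamental group of the fibre if `π₂(B)` is trivial. -/
def kerEquiv (h : RelLift p) (e : E) (hB : Subsingleton (HomotopyGroup (Fin 2) B (p e))) :
    FundamentalGroup ↥(p ⁻¹' {p e}) (base p e) ≃* (FundamentalGroup.map p e).ker :=
  (MonoidHom.ofInjective (injective_map h e hB)).trans
    (MulEquiv.subgroupCongr (range_eq_ker h e))

/-- **The extension step**. -/
theorem polyFree (h : RelLift p) (e : E) (hB : Subsingleton (HomotopyGroup (Fin 2) B (p e)))
    (hF : PathConnectedSpace ↥(p ⁻¹' {p e}))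
    (hFF : FF (FundamentalGroup ↥(p ⁻¹' {p e}) (base p e)))
    (hPB : PolyFree (FundamentalGroup B (p e))) : PolyFree (FundamentalGroup E e) :=
  PolyFree.of_surjective (FundamentalGroup.map p e) (surjective_map h e hF)
    (FF.of_mulEquiv (kerEquiv h e hB) hFF) hPB

end Groth.Agent.An.H898.PiOne
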