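import Groth.Agent.An.H898.FibreTop
import Groth.Agent.An.H898.PiOne
import Mathlib.AlgebraicTopology.FundamentalGroupoid.SimplyConnected

/-!
# Induction along the tower of a good neighbourhood

`polyFree_of`: the fundamental group of the complex points of a good neighbourhood is a successive
extension of finitely generated free groups, given the homotopy lifting property of elementary
fibrations, the vanishing of `π₂` of the base and the freeness of `π₁` of the fibres.
-/

set_option autoImplicit false
set_option linter.style.haveILetI false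
open CategoryTheory AlgebraicGeometry Topology TopologicalSpace

noncomputable section

namespace Groth.Agent.An.H898.Assemble

open Groth.Agent.An.H898.GroupExt Groth.Agent.An.H898.PiOne

/-- A good neighbourhood stays one after composing with an isomorphism on the target. -/
theorem comp_iso {X S : Scheme.{0}} {e : X ⟶ S} (he : An.IsGoodNeighbourhood e) :
    ∀ {T : Scheme.{0}} (i : S ⟶ T) [IsIso i], An.IsGoodNeighbourhood (e ≫ i) := by
  induction he with
  | zero e => intro T i _; exact An.IsGoodNeighbourhood.zero _
  | step f g hf hg ih =>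
    intro T i _
    rw [Category.assoc]
    exact An.IsGoodNeighbourhood.step f (g ≫ i) hf (ih i)

/-- A good neighbourhood of a point is smooth. -/
theorem smooth {X S : Scheme.{0}} {e : X ⟶ S} (he : An.IsGoodNeighbourhood e) : Smooth e := by
  induction he with
  | zero e => infer_instance
  | step f g hf hg ih =>
    have := Groth.Agent.An.H898.Fibre.smooth hf
    infer_instance

theorem subsingleton_pts_of_isIso {X : Scheme.{0}} [X.Over An.SC] [IsIso (X ↘ An.SC)] :
    Subsingleton (An.Pts X) :=
  ⟨fun x y => Subtype.ext (by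
    rw [← cancel_mono (X ↘ An.SC), x.2, y.2])⟩

theorem subsingleton_fundamentalGroup (T : Type) [TopologicalSpace T] [Subsingleton T] (x : T) :
    Subsingleton (FundamentalGroup T x) := by
  refine ⟨fun a b => ?_⟩
  obtain ⟨a, rfl⟩ := exists_rep a
  obtain ⟨b, rfl⟩ := exists_rep b
  have : a = b := by
    ext t
    exact Subsingleton.elim _ _
  rw [this]

/-- The homotopy lifting property of elementary fibrations on complex points. -/
def HLP : Prop :=
  ∀ (X S : Scheme.{0}) [X.Over An.SC] [S.Over An.SC] [LocallyOfFiniteType (X ↘ An.SC)]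
    [LocallyOfFiniteType (S ↘ An.SC)] [Smooth (S ↘ An.SC)] (f : X ⟶ S) [f.IsOver An.SC],
    An.IsElementaryFibration f → RelLift (An.Pts.mapC f)

/-- The vanishing of `π₂` for good neighbourhoods. -/
def PiTwo : Prop :=
  ∀ (X : Scheme.{0}) [X.Over An.SC] [LocallyOfFiniteType (X ↘ An.SC)],
    An.IsGoodNeighbourhood (X ↘ An.SC) → ConnectedSpace ↥X → ∀ x : An.Pts X,
    Subsingleton (HomotopyGroup (Fin 2) (An.Pts X) x)

/-- The fibres of elementary fibrations on complex points are path connected with free finitely
generated fundamental group. -/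
def Curves : Prop :=
  ∀ (X S : Scheme.{0}) [X.Over An.SC] [S.Over An.SC] (f : X ⟶ S) [f.IsOver An.SC],
    An.IsElementaryFibration f → ∀ s : An.Pts S,
    PathConnectedSpace ↥(An.Pts.map f ⁻¹' {s}) ∧
    ∀ x : ↥(An.Pts.map f ⁻¹' {s}), FF (FundamentalGroup ↥(An.Pts.map f ⁻¹' {s}) x)

theorem polyFree_of (h1 : HLP) (h2 : PiTwo) (h3 : Curves) {X S : Scheme.{0}} {e : X ⟶ S}
    (he : An.IsGoodNeighbourhood e) :
    ∀ (i : S ⟶ An.SC) [IsIso i] [X.Over An.SC] (_ : (X ↘ An.SC) = e ≫ i)
      (_ : ConnectedSpace ↥X) (x : An.Pts X), PolyFree (FundamentalGroup (An.Pts X) x) := by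
  induction he with
  | @zero X S e _ =>
    intro i _ inst h _ x
    have hi : IsIso (X ↘ An.SC) := by rw [h]; infer_instance
    have := subsingleton_pts_of_isIso (X := X)
    have := subsingleton_fundamentalGroup (An.Pts X) x
    exact polyFree_of_subsingleton _
  | @step X Y S f g hf hg ih =>
    intro i _ inst h hX x
    letI : Y.Over An.SC := ⟨g ≫ i⟩
    have hover : f.IsOver An.SC := ⟨by rw [h, Category.assoc]; rfl⟩
    have hY : ConnectedSpace ↥Y :=
      (Groth.Agent.An.H898.Fibre.surjective hf).connectedSpace f.continuous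
    have hgood : An.IsGoodNeighbourhood (Y ↘ An.SC) := comp_iso hg i
    have hgoodX : An.IsGoodNeighbourhood (X ↘ An.SC) := by
      rw [h, Category.assoc]
      exact An.IsGoodNeighbourhood.step f (g ≫ i) hf (comp_iso hg i)
    have hsm : Smooth (Y ↘ An.SC) := smooth hgood
    have hsmX : Smooth (X ↘ An.SC) := smooth hgoodX
    have hlift := h1 X Y f hf
    obtain ⟨hpc, hff⟩ := h3 X Y f hf (An.Pts.mapC f x)
    exact PiOne.polyFree hlift x (h2 Y hgood hY _) hpc (hff _) (ih i rfl hY _)

end Groth.Agent.An.H898.Assemble
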