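import Groth.Agent.An.H868.Chart
import Groth.Agent.An.H863.PtsCont

/-!
# The complex points of the affine line
-/

set_option autoImplicit false
open CategoryTheory AlgebraicGeometry Topology TopologicalSpace Opposite Polynomial

noncomputable section

namespace Groth.Agent.An.H898.Line

open Groth.Agent.An.H863.PtsBasic Groth.Agent.An.H863.PtsCont Groth.Agent.An.H868.Chart

/-- The affine line over `ℂ`. -/
abbrev A1 : Scheme.{0} := Spec (CommRingCat.of ℂ[X])

/-- The structure morphism of the affine line. -/
abbrev str : A1 ⟶ An.SC := Spec.map (CommRingCat.ofHom (C : ℂ →+* ℂ[X]))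

/-- The affine line as a scheme over `ℂ`. -/
@[reducible] def over : A1.Over An.SC := ⟨str⟩

attribute [local instance] over

lemma over_eq : (A1 ↘ An.SC) = str := rfl

/-- A polynomial as a function on the affine line. -/
def fn (P : ℂ[X]) : Γ(A1, ⊤) := (Scheme.ΓSpecIso (CommRingCat.of ℂ[X])).inv P

lemma strU_top (c : ℂ) : strU (X := A1) ⊤ c = fn (C c) := by
  have h1 : strU (X := A1) ⊤ c = An.strHom A1 c := by
    change (A1.presheaf.map (homOfLE (le_top : (⊤ : A1.Opens) ≤ ⊤)).op) (An.strHom A1 c) = _
    have : (homOfLE (le_top : (⊤ : A1.Opens) ≤ ⊤)).op = 𝟙 _ := rfl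
    rw [this, A1.presheaf.map_id]
    rfl
  rw [h1]
  have h2 := Scheme.ΓSpecIso_inv_naturality (CommRingCat.ofHom (C : ℂ →+* ℂ[X]))
  exact (ConcreteCategory.congr_hom h2 c).symm

/-- The coordinate of a complex point of the affine line. -/
def coord (x : An.Pts A1) : ℂ := x.evTop (fn X)

/-- The complex point of the affine line with coordinate `c`. -/
def point (c : ℂ) : An.Pts A1 :=
  ofChart (isAffineOpen_top A1)
    ((evalRingHom c).comp (Scheme.ΓSpecIso (CommRingCat.of ℂ[X])).hom.hom) (fun t => by
      rw [strU_top]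
      change (evalRingHom c) ((Scheme.ΓSpecIso (CommRingCat.of ℂ[X])).hom
        ((Scheme.ΓSpecIso (CommRingCat.of ℂ[X])).inv (C t))) = t
      rw [← ConcreteCategory.comp_apply, Iso.inv_hom_id]
      exact eval_C)

lemma evTop_point (c : ℂ) (P : ℂ[X]) : (point c).evTop (fn P) = P.eval c := by
  refine (ev_ofChart (isAffineOpen_top A1) _ _ _ (fn P)).trans ?_
  change (evalRingHom c) ((Scheme.ΓSpecIso (CommRingCat.of ℂ[X])).hom
        ((Scheme.ΓSpecIso (CommRingCat.of ℂ[X])).inv P)) = _
  rw [← ConcreteCategory.comp_apply, Iso.inv_hom_id]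
  rfl

lemma evTop_fn (x : An.Pts A1) (P : ℂ[X]) : x.evTop (fn P) = P.eval (coord x) := by
  let φ : ℂ[X] →+* ℂ := (evHom x ⊤ (Opens.mem_top _)).comp
    (Scheme.ΓSpecIso (CommRingCat.of ℂ[X])).inv.hom
  have h1 : φ = evalRingHom (coord x) := by
    refine Polynomial.ringHom_ext (fun c => ?_) ?_
    · change x.evTop (fn (C c)) = _
      rw [← strU_top]
      exact (ev_strU x ⊤ _ c).trans (by simp)
    · change x.evTop (fn X) = _
      simp [coord]
  exact congrArg (fun ψ : ℂ[X] →+* ℂ => ψ P) h1

lemma coord_point (c : ℂ) : coord (point c) = c := by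
  rw [coord, evTop_point, eval_X]

lemma point_coord (x : An.Pts A1) : point (coord x) = x := by
  refine ext_of_ev (isAffineOpen_top A1) (Opens.mem_top _) (Opens.mem_top _) fun f => ?_
  obtain ⟨P, rfl⟩ : ∃ P, f = fn P :=
    ⟨(Scheme.ΓSpecIso (CommRingCat.of ℂ[X])).hom f, by
      unfold fn
      rw [← ConcreteCategory.comp_apply, Iso.hom_inv_id]; rfl⟩
  change (point (coord x)).evTop (fn P) = x.evTop (fn P)
  rw [evTop_point, evTop_fn]

lemma continuous_point : Continuous point := by
  refine continuous_ofChart (isAffineOpen_top A1) _ _ fun f => ?_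
  exact (Polynomial.continuous _ : Continuous fun c : ℂ =>
    ((Scheme.ΓSpecIso (CommRingCat.of ℂ[X])).hom f : ℂ[X]).eval c)

/-- The coordinate is a homeomorphism from the complex points of the affine line to `ℂ`. -/
def homeo : An.Pts A1 ≃ₜ ℂ where
  toFun := coord
  invFun := point
  left_inv := point_coord
  right_inv := coord_point
  continuous_toFun := continuous_evTop _
  continuous_invFun := continuous_point

end Groth.Agent.An.H898.Line
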