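import Groth.Agent.An.H898.GenEtale
import Groth.Agent.An.H898.Line
import Groth.Agent.An.H879.Covering
import Groth.Agent.An.H866.EtLH
import Groth.Agent.An.H871.Imm
import Groth.Agent.An.H871.Surj
import Groth.Agent.FlatA.DimFin

/-!
# The complex points of an affine curve as a branched covering of the complex line

Let `Z` be an affine integral scheme of finite type over `ℂ`, of dimension at most one and not finite
over `ℂ`. Then there is a finite surjective map `p : Z(ℂ) → ℂ` which is a covering map outside a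
finite set.
-/

set_option autoImplicit false
open CategoryTheory AlgebraicGeometry Topology TopologicalSpace Opposite

noncomputable section

namespace Groth.Agent.An.H898.Branched

open Groth.Agent.An.H863.PtsBasic Groth.Agent.An.H863.PtsCont Groth.Agent.An.H868.Chart
  Groth.Agent.An.H898.Line

attribute [local instance] Line.over

set_option linter.unusedSectionVars false
set_option linter.style.haveILetI false

variable (Z : Scheme.{0}) [Z.Over An.SC] [LocallyOfFiniteType (Z ↘ An.SC)] [IsAffine Z]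

lemma strHom_eq_strU (c : ℂ) : strU (X := Z) ⊤ c = An.strHom Z c := by
  change (Z.presheaf.map (homOfLE (le_top : (⊤ : Z.Opens) ≤ ⊤)).op) (An.strHom Z c) = _
  have : (homOfLE (le_top : (⊤ : Z.Opens) ≤ ⊤)).op = 𝟙 _ := rfl
  rw [this, Z.presheaf.map_id]
  rfl

/-- If the structure map `ℂ → Γ(Z, ⊤)` is finite then `Z` is finite over `ℂ`. -/
lemma isFinite_of_finite (h : (strU (X := Z) ⊤).Finite) : IsFinite (Z ↘ An.SC) := by
  rw [HasAffineProperty.iff_of_isAffine (P := @IsFinite)]
  refine ⟨inferInstance, ?_⟩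
  have h1 : (strU (X := Z) ⊤) = (Z ↘ An.SC).appTop.hom.comp
      (Scheme.ΓSpecIso (CommRingCat.of ℂ)).inv.hom := by
    ext c
    exact strHom_eq_strU Z c
  rw [h1] at h
  have h2 : (Scheme.ΓSpecIso (CommRingCat.of ℂ)).hom.hom.Finite :=
    RingHom.Finite.of_surjective _
      (ConcreteCategory.bijective_of_isIso (Scheme.ΓSpecIso (CommRingCat.of ℂ)).hom).2
  have h3 := h.comp h2
  rw [RingHom.comp_assoc] at h3
  have h4 : (Scheme.ΓSpecIso (CommRingCat.of ℂ)).inv.hom.comp
      (Scheme.ΓSpecIso (CommRingCat.of ℂ)).hom.hom = RingHom.id _ := by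
    ext x
    change (Scheme.ΓSpecIso (CommRingCat.of ℂ)).inv ((Scheme.ΓSpecIso (CommRingCat.of ℂ)).hom x) = x
    rw [← ConcreteCategory.comp_apply, Iso.hom_inv_id]; rfl
  rwa [h4, RingHom.comp_id] at h3

/-- Noether normalization in dimension at most one. -/
lemma exists_noether [IsIntegral Z] (hdim : topologicalKrullDim Z ≤ 1)
    (hfin : ¬ IsFinite (Z ↘ An.SC)) :
    ∃ φ : Polynomial ℂ →+* Γ(Z, ⊤), Function.Injective φ ∧ φ.Finite ∧
      ∀ c, φ (Polynomial.C c) = strU (X := Z) ⊤ c := by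
  letI : Algebra ℂ Γ(Z, ⊤) := algU (X := Z) ⊤
  have hft : Algebra.FiniteType ℂ Γ(Z, ⊤) := finiteType_algU (isAffineOpen_top Z)
  obtain ⟨n, g, hg, hgf, hn⟩ := Groth.Agent.FlatA.DimFin.exists_noether ℂ Γ(Z, ⊤)
  have hd : ringKrullDim Γ(Z, ⊤) = topologicalKrullDim Z := by
    rw [← PrimeSpectrum.topologicalKrullDim_eq_ringKrullDim]
    exact (IsHomeomorph.topologicalKrullDim_eq Z.isoSpec.hom.base
      (Scheme.homeoOfIso Z.isoSpec).isHomeomorph).symm
  have hn1 : n ≤ 1 := by
    rw [← hd, hn] at hdim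
    exact_mod_cast hdim
  have hcomp : ∀ c, g (MvPolynomial.C c) = strU (X := Z) ⊤ c := fun c => g.commutes c
  obtain rfl | rfl : n = 0 ∨ n = 1 := by omega
  · exfalso
    apply hfin
    apply isFinite_of_finite
    have h1 : (strU (X := Z) ⊤) = g.toRingHom.comp MvPolynomial.C := by
      ext c
      exact (hcomp c).symm
    rw [h1]
    exact RingHom.Finite.comp hgf
      (RingHom.Finite.of_surjective _ (MvPolynomial.C_surjective (Fin 0)))
  · let e := MvPolynomial.uniqueAlgEquiv ℂ (Fin 1)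
    refine ⟨g.toRingHom.comp e.symm.toRingEquiv.toRingHom, hg.comp e.symm.injective, ?_, ?_⟩
    · exact RingHom.Finite.comp hgf (RingHom.Finite.of_surjective _ e.symm.surjective)
    · intro c
      change g (e.symm (Polynomial.C c)) = _
      have h1 : e.symm (Polynomial.C c) = MvPolynomial.C c := e.symm.commutes c
      rw [h1, hcomp]

section

variable (φ : Polynomial ℂ →+* Γ(Z, ⊤))

/-- The morphism to the affine line given by a ring homomorphism `ℂ[X] → Γ(Z, ⊤)`. -/
def toLine : Z ⟶ A1 := Z.toSpecΓ ≫ Spec.map (CommRingCat.ofHom φ)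

lemma appTop_toLine (P : Polynomial ℂ) : (toLine Z φ).appTop (fn P) = φ P := by
  unfold toLine fn
  rw [Scheme.Hom.comp_appTop]
  have h1 := Scheme.ΓSpecIso_inv_naturality (CommRingCat.ofHom φ)
  have h2 : (Spec.map (CommRingCat.ofHom φ)).appTop
      ((Scheme.ΓSpecIso (CommRingCat.of (Polynomial ℂ))).inv P) =
      (Scheme.ΓSpecIso Γ(Z, ⊤)).inv (φ P) := (ConcreteCategory.congr_hom h1 P).symm
  rw [ConcreteCategory.comp_apply, h2, Scheme.toSpecΓ_appTop, ← ConcreteCategory.comp_apply,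
    Iso.inv_hom_id]
  rfl

lemma isOver_toLine (hφ : ∀ c, φ (Polynomial.C c) = strU (X := Z) ⊤ c) :
    (toLine Z φ).IsOver An.SC := by
  constructor
  apply ext_of_isAffine
  rw [Scheme.Hom.comp_appTop]
  have key : ∀ c : ℂ, (toLine Z φ).appTop ((A1 ↘ An.SC).appTop
      ((Scheme.ΓSpecIso (CommRingCat.of ℂ)).inv c)) =
      (Z ↘ An.SC).appTop ((Scheme.ΓSpecIso (CommRingCat.of ℂ)).inv c) := by
    intro c
    have h1 : (A1 ↘ An.SC).appTop ((Scheme.ΓSpecIso (CommRingCat.of ℂ)).inv c) =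
        fn (Polynomial.C c) :=
      (ConcreteCategory.congr_hom
        (Scheme.ΓSpecIso_inv_naturality (CommRingCat.ofHom (Polynomial.C : ℂ →+* _))) c).symm
    rw [h1, appTop_toLine, hφ, strHom_eq_strU]
    rfl
  ext x
  obtain ⟨c, rfl⟩ : ∃ c, x = (Scheme.ΓSpecIso (CommRingCat.of ℂ)).inv c :=
    ⟨(Scheme.ΓSpecIso (CommRingCat.of ℂ)).hom x, by
      rw [← ConcreteCategory.comp_apply, Iso.hom_inv_id]; rfl⟩
  exact key c

lemma isFinite_toLine (hfin : φ.Finite) : IsFinite (toLine Z φ) := by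
  have h1 : IsFinite (Spec.map (CommRingCat.ofHom φ)) := (IsFinite.SpecMap_iff _).2 hfin
  unfold toLine
  infer_instance

lemma surjective_toLine (hfin : φ.Finite) (hinj : Function.Injective φ) :
    Surjective (toLine Z φ) := by
  have h1 : Surjective (Spec.map (CommRingCat.ofHom φ)) := by
    constructor
    have := hfin.to_isIntegral.comap_surjective hinj
    exact this
  unfold toLine
  infer_instance

/-- The open immersion of the principal open `f ≠ 0` in an affine scheme. -/
def awayι (f : Γ(Z, ⊤)) : Spec (CommRingCat.of (Localization.Away f)) ⟶ Z :=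
  Spec.map (CommRingCat.ofHom (algebraMap Γ(Z, ⊤) (Localization.Away f))) ≫ Z.isoSpec.inv

instance (f : Γ(Z, ⊤)) : IsOpenImmersion (awayι Z f) := by
  have h1 : IsOpenImmersion
      (Spec.map (CommRingCat.ofHom (algebraMap Γ(Z, ⊤) (Localization.Away f)))) := inferInstance
  unfold awayι
  infer_instance

lemma range_awayι (f : Γ(Z, ⊤)) : Set.range (awayι Z f) = (Z.basicOpen f : Set Z) := by
  have h1 : Set.range (Spec.map (CommRingCat.ofHom (algebraMap Γ(Z, ⊤) (Localization.Away f)))) =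
      (PrimeSpectrum.basicOpen f : Set (PrimeSpectrum Γ(Z, ⊤))) :=
    PrimeSpectrum.localization_away_comap_range _ _
  rw [← Scheme.toSpecΓ_preimage_basicOpen]
  have h2 : ∀ y, Z.toSpecΓ (Z.isoSpec.inv y) = y := by
    intro y
    rw [← Scheme.Hom.comp_apply]
    have : Z.isoSpec.inv ≫ Z.toSpecΓ = 𝟙 _ := Z.isoSpec.inv_hom_id
    rw [this]; rfl
  have h3 : ∀ y, Z.isoSpec.inv (Z.toSpecΓ y) = y := by
    intro y
    rw [← Scheme.Hom.comp_apply]
    have : Z.toSpecΓ ≫ Z.isoSpec.inv = 𝟙 _ := Z.isoSpec.hom_inv_id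
    rw [this]; rfl
  ext x
  constructor
  · rintro ⟨w, rfl⟩
    change Z.toSpecΓ (awayι Z f w) ∈ (PrimeSpectrum.basicOpen f : Set (PrimeSpectrum Γ(Z, ⊤)))
    have : awayι Z f w = Z.isoSpec.inv
        (Spec.map (CommRingCat.ofHom (algebraMap Γ(Z, ⊤) (Localization.Away f))) w) := by
      unfold awayι
      rw [Scheme.Hom.comp_apply]
    rw [this, h2, ← h1]
    exact ⟨w, rfl⟩
  · intro hx
    have hx' : Z.toSpecΓ x ∈ (PrimeSpectrum.basicOpen f : Set (PrimeSpectrum Γ(Z, ⊤))) := hx
    rw [← h1] at hx'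
    obtain ⟨w, hw⟩ := hx'
    refine ⟨w, ?_⟩
    unfold awayι
    rw [Scheme.Hom.comp_apply, hw, h3]

lemma awayι_comp_toLine (f : Γ(Z, ⊤)) :
    awayι Z f ≫ toLine Z φ =
      Spec.map (CommRingCat.ofHom ((algebraMap Γ(Z, ⊤) (Localization.Away f)).comp φ)) := by
  unfold awayι toLine
  have h1 : Z.isoSpec.inv ≫ Z.toSpecΓ = 𝟙 _ := Z.isoSpec.inv_hom_id
  rw [Category.assoc, reassoc_of% h1, ← Spec.map_comp]
  rfl

end

/-- **The complex points of an affine curve as a branched covering of `ℂ`.** -/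
theorem exists_branched [IsIntegral Z] (hdim : topologicalKrullDim Z ≤ 1)
    (hfin : ¬ IsFinite (Z ↘ An.SC)) :
    ∃ (p : An.Pts Z → ℂ) (B : Finset ℂ), Continuous p ∧ IsClosedMap p ∧
      (∀ z, (p ⁻¹' {z}).Finite) ∧ IsCoveringMapOn p (B : Set ℂ)ᶜ ∧ Function.Surjective p := by
  obtain ⟨φ, hinj, hfinφ, hφ⟩ := exists_noether Z hdim hfin
  let π := toLine Z φ
  have hover : π.IsOver An.SC := isOver_toLine Z φ hφ
  have hπf : IsFinite π := isFinite_toLine Z φ hfinφ
  have hπs : Surjective π := surjective_toLine Z φ hfinφ hinj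
  have hA1 : LocallyOfFiniteType (A1 ↘ An.SC) := by
    have : LocallyOfFiniteType (Spec.map (CommRingCat.ofHom (Polynomial.C : ℂ →+* _))) := by
      rw [HasRingHomProperty.Spec_iff (P := @LocallyOfFiniteType)]
      have h0 : (algebraMap ℂ (Polynomial ℂ)).FiniteType :=
        RingHom.finiteType_algebraMap.2 inferInstance
      exact h0
    exact this
  -- the map
  let p : An.Pts Z → ℂ := fun x => Line.homeo (An.Pts.map π x)
  have hcont : Continuous p := Line.homeo.continuous.comp (An.Pts.continuous_map π)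
  have hclosed : IsClosedMap p :=
    Line.homeo.isClosedMap.comp
      (Groth.Agent.An.H879.FiniteClosed.isClosedMap_map_of_isFinite π)
  have hfib : ∀ z, (p ⁻¹' {z}).Finite := by
    intro z
    refine (Groth.Agent.An.H879.FiniteClosed.finite_fibre_of_isFinite π
      (Line.homeo.symm z)).subset ?_
    intro x hx
    have hx' : Line.homeo (An.Pts.map π x) = z := hx
    change An.Pts.map π x = Line.homeo.symm z
    rw [← hx', Homeomorph.symm_apply_apply]
  have hsurj : Function.Surjective p :=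
    Line.homeo.surjective.comp
      ((Groth.Agent.An.H871.Surj.surjective_iff π).1 hπs.1)
  have hT2 : T2Space (An.Pts Z) := by
    have h1 := Groth.Agent.An.H879.FiniteClosed.t2Space_of_isAffineOpen (isAffineOpen_top Z)
    refine ⟨fun x y hxy => ?_⟩
    obtain ⟨U, V, hU, hV, hxU, hyV, hd⟩ := t2_separation
      (x := (⟨x, Opens.mem_top _⟩ : {x : An.Pts Z // x.pt ∈ (⊤ : Z.Opens)}))
      (y := ⟨y, Opens.mem_top _⟩) (fun h => hxy (congrArg Subtype.val h))
    have hc : Continuous
        (fun x : An.Pts Z => (⟨x, Opens.mem_top _⟩ : {x : An.Pts Z // x.pt ∈ (⊤ : Z.Opens)})) :=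
      continuous_id.subtype_mk _
    exact ⟨_, _, hU.preimage hc, hV.preimage hc, hxU, hyV, hd.preimage _⟩
  -- étale away from the zeros of a polynomial
  letI : Algebra (Polynomial ℂ) Γ(Z, ⊤) := φ.toAlgebra
  have hfaith : FaithfulSMul (Polynomial ℂ) Γ(Z, ⊤) :=
    (faithfulSMul_iff_algebraMap_injective _ _).2 hinj
  have hmf : Module.Finite (Polynomial ℂ) Γ(Z, ⊤) := hfinφ
  obtain ⟨D, hD, hDe⟩ := Groth.Agent.An.H898.GenEtale.exists_etale_away (Polynomial ℂ) Γ(Z, ⊤)
  refine ⟨p, D.roots.toFinset, hcont, hclosed, hfib, ?_, hsurj⟩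
  refine hclosed.isCoveringMapOn_of_isLocalHomeomorphOn (fun x _ => hfib x) ?_
  let j := awayι Z (φ D)
  letI : (Spec (CommRingCat.of (Localization.Away (φ D)))).Over An.SC := ⟨j ≫ (Z ↘ An.SC)⟩
  have hjo : j.IsOver An.SC := ⟨rfl⟩
  have hjπo : (j ≫ π).IsOver An.SC := ⟨by
    rw [Category.assoc, comp_over π]; rfl⟩
  have hWlft : LocallyOfFiniteType
      ((Spec (CommRingCat.of (Localization.Away (φ D)))) ↘ An.SC) := by
    change LocallyOfFiniteType (j ≫ (Z ↘ An.SC))
    infer_instance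
  have het : Etale (j ≫ π) := by
    rw [awayι_comp_toLine]
    rw [HasRingHomProperty.Spec_iff (P := @Etale)]
    have h1 : algebraMap (Polynomial ℂ) (Localization.Away (φ D)) =
        (algebraMap Γ(Z, ⊤) (Localization.Away (φ D))).comp φ := rfl
    change RingHom.Etale ((algebraMap Γ(Z, ⊤) (Localization.Away (φ D))).comp φ)
    rw [← h1, RingHom.etale_algebraMap]
    exact hDe
  have hloc : IsLocalHomeomorph (An.Pts.map (j ≫ π)) :=
    Groth.Agent.An.H866.EtLH.isLocalHomeomorph_map (j ≫ π)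
  have hloc2 : IsLocalHomeomorph (p ∘ An.Pts.map j) := by
    have : p ∘ An.Pts.map j = Line.homeo ∘ An.Pts.map (j ≫ π) := by
      funext x
      change Line.homeo (An.Pts.map π (An.Pts.map j x)) = Line.homeo (An.Pts.map (j ≫ π) x)
      rw [An.Pts.map_comp]
    rw [this]
    exact Line.homeo.isLocalHomeomorph.comp hloc
  have hjemb := Groth.Agent.An.H871.Imm.isOpenEmbedding_map j
  have h1 : IsLocalHomeomorphOn p (An.Pts.map j '' Set.univ) :=
    IsLocalHomeomorphOn.of_comp_right (hloc2.isLocalHomeomorphOn) 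
      (hjemb.isLocalHomeomorph.isLocalHomeomorphOn)
  refine h1.mono ?_
  rw [Set.image_univ, Groth.Agent.An.H871.Imm.range_map_of_isOpenImmersion, range_awayι]
  intro x hx
  have hx' : p x ∉ (D.roots.toFinset : Set ℂ) := hx
  have hx2 : D.eval (p x) ≠ 0 := by
    intro h
    apply hx'
    rw [Finset.mem_coe, Multiset.mem_toFinset, Polynomial.mem_roots hD]
    exact h
  change x.pt ∈ Z.basicOpen (φ D)
  rw [← ev_ne_zero_iff x ⊤ (Opens.mem_top _)]
  have h3 : x.ev ⊤ (Opens.mem_top _) (φ D) = D.eval (p x) := by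
    rw [← appTop_toLine Z φ D]
    exact (An.Pts.ev_map π x ⊤ (Opens.mem_top _) (fn D)).symm.trans (evTop_fn _ D)
  rw [h3]
  exact hx2

end Groth.Agent.An.H898.Branched
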