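import Groth.Agent.An.H898.Assemble
import Groth.Agent.An.H26.HigherPi

/-!
# The fibres of elementary fibrations: path connected, free finitely generated fundamental group,
trivial higher homotopy groups
-/

set_option autoImplicit false
open CategoryTheory AlgebraicGeometry Topology TopologicalSpace

namespace Groth.Agent.An.H898.CurvesPi

open Groth.Agent.An.H898.GroupExt Groth.Agent.An.H898.Assemble

variable {X S : Scheme.{0}} [X.Over An.SC] [S.Over An.SC] (f : X ⟶ S) [f.IsOver An.SC]
  (hf : An.IsElementaryFibration f) (s : An.Pts S)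

include hf

theorem pathConnectedSpace : PathConnectedSpace ↥(An.Pts.map f ⁻¹' {s}) := by
  obtain ⟨p, B, h1, h2, h3, h4, h5⟩ := Groth.Agent.An.H898.FibreTop.exists_branched f s hf
  have := Groth.Agent.An.H898.FibreTop.t2Space f s hf
  have := Groth.Agent.An.H898.FibreTop.connectedSpace f s hf
  exact Groth.Agent.An.H26.HigherPi.pathConnectedSpace h1 h2 h3 B h4

theorem ff (x : ↥(An.Pts.map f ⁻¹' {s})) :
    FF (FundamentalGroup ↥(An.Pts.map f ⁻¹' {s}) x) := by
  obtain ⟨p, B, h1, h2, h3, h4, h5⟩ := Groth.Agent.An.H898.FibreTop.exists_branched f s hf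
  have := Groth.Agent.An.H898.FibreTop.t2Space f s hf
  have := Groth.Agent.An.H898.FibreTop.connectedSpace f s hf
  exact ⟨Groth.Agent.An.H26.HigherPi.isFreeGroup h1 h2 h3 B h4 x,
    Groth.Agent.An.H26.HigherPi.fundamentalGroup_fg h1 h2 h3 B h4 x⟩

theorem subsingleton_homotopyGroup (x : ↥(An.Pts.map f ⁻¹' {s})) (n : ℕ) (hn : 2 ≤ n) :
    Subsingleton (HomotopyGroup (Fin n) ↥(An.Pts.map f ⁻¹' {s}) x) := by
  obtain ⟨p, B, h1, h2, h3, h4, h5⟩ := Groth.Agent.An.H898.FibreTop.exists_branched f s hf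
  have := Groth.Agent.An.H898.FibreTop.t2Space f s hf
  exact Groth.Agent.An.H26.HigherPi.subsingleton_homotopyGroup h1 h2 h3 B h4 hn x

omit hf in
theorem curves : Curves := fun _ _ _ _ f _ hf s =>
  ⟨pathConnectedSpace f hf s, fun x => ff f hf s x⟩

end Groth.Agent.An.H898.CurvesPi
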