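import Groth.Agent.An.H898.Fibre
import Groth.Agent.An.H898.Branched
import Groth.Agent.An.H863.PtsPullback
import Groth.Agent.An.H868.Clopen
import Groth.Agent.An.H869.Conn
import Groth.Agent.An.H878.Point

/-!
# The fibres of an elementary fibration on complex points

For an elementary fibration `f : X ⟶ S` over `ℂ` and `s : S(ℂ)` the fibre `f(ℂ)⁻¹(s)` is a connected
Hausdorff space `F` with a continuous closed surjective map `p : F → ℂ` with finite fibres, which is a
covering map outside a finite set.
-/

set_option autoImplicit false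
open CategoryTheory AlgebraicGeometry Topology TopologicalSpace

noncomputable section

namespace Groth.Agent.An.H898.FibreTop

variable {X S : Scheme.{0}} [X.Over An.SC] [S.Over An.SC] (f : X ⟶ S) [f.IsOver An.SC]
  (s : An.Pts S)

/-- A complex point is a morphism over `ℂ`. -/
theorem isOver_pt : (s.1 : An.SC ⟶ S).IsOver An.SC :=
  ⟨by
    have e : (An.SC ↘ An.SC) = 𝟙 An.SC := rfl
    rw [e]; exact s.2⟩

attribute [local instance] isOver_pt

lemma map_fst_mem (z : An.Pts (Limits.pullback f s.1)) :
    An.Pts.map (Limits.pullback.fst f s.1) z ∈ An.Pts.map f ⁻¹' {s} := by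
  change An.Pts.map f _ = s
  rw [An.Pts.map_pullback_condition]
  refine Subtype.ext ?_
  have h1 : (An.Pts.map (Limits.pullback.snd f s.1) z).1 = 𝟙 An.SC :=
    congrArg Subtype.val (Subsingleton.elim (An.Pts.map (Limits.pullback.snd f s.1) z)
      Groth.Agent.An.H878.Point.point)
  change (An.Pts.map (Limits.pullback.snd f s.1) z).1 ≫ s.1 = s.1
  rw [h1, Category.id_comp]

lemma map_eq_map_point (x : ↥(An.Pts.map f ⁻¹' {s})) :
    An.Pts.map f x.1 = An.Pts.map s.1 Groth.Agent.An.H878.Point.point := by
  have h1 : An.Pts.map f x.1 = s := x.2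
  refine h1.trans (Subtype.ext ?_)
  change s.1 = 𝟙 An.SC ≫ s.1
  rw [Category.id_comp]

/-- The map from the complex points of the fibre to the fibre. -/
def toFibre (z : An.Pts (Limits.pullback f s.1)) : ↥(An.Pts.map f ⁻¹' {s}) :=
  ⟨An.Pts.map (Limits.pullback.fst f s.1) z, map_fst_mem f s z⟩

/-- The map from the fibre to the complex points of the fibre. -/
def ofFibre (x : ↥(An.Pts.map f ⁻¹' {s})) : An.Pts (Limits.pullback f s.1) :=
  Groth.Agent.An.H863.PtsPullback.lift f s.1
    ⟨(x.1, Groth.Agent.An.H878.Point.point), map_eq_map_point f s x⟩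

lemma ofFibre_toFibre (z : An.Pts (Limits.pullback f s.1)) : ofFibre f s (toFibre f s z) = z := by
  refine Eq.trans ?_ (Groth.Agent.An.H863.PtsPullback.lift_map f s.1 z)
  exact congrArg (Groth.Agent.An.H863.PtsPullback.lift f s.1)
    (Subtype.ext (Prod.ext rfl (Subsingleton.elim _ _)))

lemma toFibre_ofFibre (x : ↥(An.Pts.map f ⁻¹' {s})) : toFibre f s (ofFibre f s x) = x :=
  Subtype.ext (Groth.Agent.An.H863.PtsPullback.map_fst_lift f s.1 _)

lemma continuous_toFibre : Continuous (toFibre f s) :=
  (An.Pts.continuous_map _).subtype_mk _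

lemma continuous_ofFibre : Continuous (ofFibre f s) := by
  refine (Groth.Agent.An.H863.PtsPullback.continuous_lift f s.1).comp ?_
  exact (continuous_subtype_val.prodMk continuous_const).subtype_mk _

/-- The space of complex points of the fibre is the fibre on complex points. -/
def fibreHomeo : An.Pts (Limits.pullback f s.1) ≃ₜ ↥(An.Pts.map f ⁻¹' {s}) where
  toFun := toFibre f s
  invFun := ofFibre f s
  left_inv := ofFibre_toFibre f s
  right_inv := toFibre_ofFibre f s
  continuous_toFun := continuous_toFibre f s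
  continuous_invFun := continuous_ofFibre f s

/-- The structure morphism of the fibre is the second projection. -/
lemma pullback_over_eq : (Limits.pullback f s.1 ↘ An.SC) = Limits.pullback.snd f s.1 := by
  have h1 := comp_over (Limits.pullback.snd f s.1) An.SC
  have e : (An.SC ↘ An.SC) = 𝟙 An.SC := rfl
  rw [e, Category.comp_id] at h1
  exact h1.symm

theorem locallyOfFiniteType (hf : An.IsElementaryFibration f) :
    LocallyOfFiniteType (Limits.pullback f s.1 ↘ An.SC) := by
  have h1 := Groth.Agent.An.H898.Fibre.smooth hf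
  rw [pullback_over_eq]
  infer_instance

/-- The space of complex points of an affine scheme over `ℂ` is Hausdorff. -/
theorem t2Space_of_isAffine (Z : Scheme.{0}) [Z.Over An.SC] [IsAffine Z] : T2Space (An.Pts Z) := by
  have h1 := Groth.Agent.An.H879.FiniteClosed.t2Space_of_isAffineOpen (isAffineOpen_top Z)
  refine ⟨fun x y hxy => ?_⟩
  obtain ⟨U, V, hU, hV, hxU, hyV, hd⟩ := t2_separation
    (x := (⟨x, Opens.mem_top _⟩ : {x : An.Pts Z // x.pt ∈ (⊤ : Z.Opens)}))
    (y := ⟨y, Opens.mem_top _⟩) (fun h => hxy (congrArg Subtype.val h))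
  have hc : Continuous
      (fun x : An.Pts Z => (⟨x, Opens.mem_top _⟩ : {x : An.Pts Z // x.pt ∈ (⊤ : Z.Opens)})) :=
    continuous_id.subtype_mk _
  exact ⟨_, _, hU.preimage hc, hV.preimage hc, hxU, hyV, hd.preimage _⟩

variable (hf : An.IsElementaryFibration f)

include hf

theorem t2Space : T2Space ↥(An.Pts.map f ⁻¹' {s}) := by
  have h1 := Groth.Agent.An.H898.Fibre.isAffine hf ℂ s.1
  have h2 := t2Space_of_isAffine (Limits.pullback f s.1)
  exact (fibreHomeo f s).t2Space

theorem connectedSpace : ConnectedSpace ↥(An.Pts.map f ⁻¹' {s}) := by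
  have h1 := Groth.Agent.An.H898.Fibre.irreducibleSpace hf ℂ s.1
  have h2 := locallyOfFiniteType f s hf
  have h3 : ConnectedSpace (An.Pts (Limits.pullback f s.1)) :=
    (Groth.Agent.An.H868.Clopen.connectedSpace_iff Groth.Agent.An.H869.Conn.conn _).1 inferInstance
  exact (fibreHomeo f s).surjective.connectedSpace (fibreHomeo f s).continuous

/-- **The fibre of an elementary fibration as a branched covering of `ℂ`.** -/
theorem exists_branched :
    ∃ (p : ↥(An.Pts.map f ⁻¹' {s}) → ℂ) (B : Finset ℂ), Continuous p ∧ IsClosedMap p ∧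
      (∀ z, (p ⁻¹' {z}).Finite) ∧ IsCoveringMapOn p (B : Set ℂ)ᶜ ∧ Function.Surjective p := by
  have h1 := Groth.Agent.An.H898.Fibre.isAffine hf ℂ s.1
  have h2 := locallyOfFiniteType f s hf
  have h3 := Groth.Agent.An.H898.Fibre.isIntegral hf ℂ s.1
  have h4 : ¬ IsFinite (Limits.pullback f s.1 ↘ An.SC) := by
    rw [pullback_over_eq]
    exact Groth.Agent.An.H898.Fibre.not_isFinite_snd hf ℂ s.1
  obtain ⟨p, B, hp1, hp2, hp3, hp4, hp5⟩ := Groth.Agent.An.H898.Branched.exists_branched
    (Limits.pullback f s.1) (Groth.Agent.An.H898.Fibre.topologicalKrullDim_le hf ℂ s.1) h4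
  let e := fibreHomeo f s
  refine ⟨p ∘ e.symm, B, hp1.comp e.symm.continuous, hp2.comp e.symm.isClosedMap, fun z => ?_, ?_,
    hp5.comp e.symm.surjective⟩
  · rw [Set.preimage_comp]
    exact (hp3 z).preimage e.symm.injective.injOn
  · intro z hz
    exact ((hp4 z hz).comp_homeomorph e.symm).to_isEvenlyCovered_preimage

end Groth.Agent.An.H898.FibreTop
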