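import Mathlib.RingTheory.Etale.Locus
import Mathlib.RingTheory.Etale.Field
import Mathlib.RingTheory.Localization.Integral
import Mathlib.RingTheory.Ideal.GoingUp
import Mathlib.FieldTheory.Perfect

/-!
# Finite extensions of domains of characteristic zero are generically étale
-/

set_option autoImplicit false

namespace Groth.Agent.An.H898.GenEtale

open scoped nonZeroDivisors

/-- The generic point of a finite extension of domains in characteristic zero lies in the étale
locus. -/
theorem isEtaleAt_bot (R A : Type*) [CommRing R] [IsDomain R] [CharZero R] [CommRing A]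
    [IsDomain A] [Algebra R A] [FaithfulSMul R A] [Module.Finite R A] :
    Algebra.IsEtaleAt R (⊥ : Ideal A) := by
  let K := FractionRing R
  let L := Localization.AtPrime (⊥ : Ideal A)
  have hL : IsFractionRing A L := by
    have h : (⊥ : Ideal A).primeCompl = A⁰ := by
      ext x
      simp [Ideal.primeCompl, mem_nonZeroDivisors_iff_ne_zero]
    change IsLocalization A⁰ L
    rw [← h]
    infer_instance
  letI : Field L := IsFractionRing.toField A
  have hinj : Function.Injective (algebraMap R L) := by
    rw [IsScalarTower.algebraMap_eq R A L]
    exact (IsFractionRing.injective A L).comp (FaithfulSMul.algebraMap_injective R A)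
  letI : Algebra K L := (IsFractionRing.lift hinj : K →+* L).toAlgebra
  have hst : IsScalarTower R K L := IsScalarTower.of_algebraMap_eq fun x => by
    change _ = IsFractionRing.lift hinj (algebraMap R K x)
    rw [IsFractionRing.lift_algebraMap]
  have : Algebra.IsAlgebraic R A := inferInstance
  have : IsLocalization (Algebra.algebraMapSubmonoid A R⁰) L := by
    infer_instance
  have : Module.Finite K L := Module.Finite.of_isLocalization R A R⁰
  have : CharZero K := charZero_of_injective_algebraMap (IsFractionRing.injective R K)
  have h1 : Algebra.FormallyEtale R K := Algebra.FormallyEtale.of_isLocalization R⁰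
  have h2 : Algebra.FormallyEtale K L := Algebra.FormallyEtale.of_isSeparable K L
  exact Algebra.FormallyEtale.comp R K L

/-- A finite extension `A` of domains of characteristic zero, `R` noetherian, is étale over the
complement of the zero set of some nonzero `D : R`. -/
theorem exists_etale_away (R A : Type*) [CommRing R] [IsDomain R] [CharZero R]
    [IsNoetherianRing R] [CommRing A] [IsDomain A] [Algebra R A] [FaithfulSMul R A]
    [Module.Finite R A] :
    ∃ D : R, D ≠ 0 ∧ Algebra.Etale R (Localization.Away (algebraMap R A D)) := by
  have : Algebra.FinitePresentation R A := Algebra.FinitePresentation.of_finiteType.1 inferInstance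
  have h0 := isEtaleAt_bot R A
  obtain ⟨f, hf, hfe⟩ := Algebra.exists_etale_of_isEtaleAt (R := R) (⊥ : Ideal A)
  have hf0 : f ≠ 0 := fun h => hf (by rw [h]; exact Ideal.zero_mem _)
  have h1 : (Ideal.span {f}).comap (algebraMap R A) ≠ ⊥ :=
    Ideal.comap_ne_bot_of_integral_mem hf0 (Ideal.subset_span rfl)
      (Algebra.IsIntegral.isIntegral f)
  obtain ⟨D, hD, hD0⟩ := Submodule.exists_mem_ne_zero_of_ne_bot h1
  refine ⟨D, hD0, ?_⟩
  rw [← Algebra.basicOpen_subset_etaleLocus_iff_etale] at hfe ⊢
  refine Set.Subset.trans ?_ hfe
  rw [Ideal.mem_comap, Ideal.mem_span_singleton] at hD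
  obtain ⟨a, ha⟩ := hD
  rw [ha, PrimeSpectrum.basicOpen_mul]
  exact inf_le_left

end Groth.Agent.An.H898.GenEtale
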