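import Groth.Agent.An.H898.Assemble
import Groth.Agent.An.H72.Lift

/-!
# From local triviality to the homotopy lifting property
-/

set_option autoImplicit false
open CategoryTheory AlgebraicGeometry Topology TopologicalSpace

namespace Groth.Agent.An.H898.HLPOf

open Groth.Agent.An.H898.PiOne Groth.Agent.An.H898.Assemble

/-- The statement of S4227: elementary fibrations are locally trivial on complex points. -/
def LocallyTrivial : Prop :=
  ∀ (X S : Scheme.{0}) [X.Over An.SC] [S.Over An.SC]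
    [LocallyOfFiniteType (X ↘ An.SC)] [LocallyOfFiniteType (S ↘ An.SC)] [Smooth (S ↘ An.SC)]
    (f : X ⟶ S) [f.IsOver An.SC] (_ : An.IsElementaryFibration f) (s : An.Pts S),
    ∃ (U : Set (An.Pts S)) (_ : IsOpen U) (_ : s ∈ U)
      (e : ↥(An.Pts.map f ⁻¹' U) ≃ₜ ↥U × ↥(An.Pts.map f ⁻¹' {s})),
      ∀ z : ↥(An.Pts.map f ⁻¹' U), ((e z).1 : An.Pts S) = An.Pts.map f z

theorem relLift_of_locTriv {E B : Type} [TopologicalSpace E] [TopologicalSpace B] (p : C(E, B))
    (h : Groth.Agent.An.H72.Lift.LocTriv p) : RelLift p := by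
  intro K _ _ C a G hG0 hGC
  exact h.exists_lift_rel C a G hG0 hGC

theorem hlp_of (h : LocallyTrivial) : HLP := by
  intro X S _ _ _ _ _ f _ hf
  refine relLift_of_locTriv (An.Pts.mapC f) fun s => ?_
  obtain ⟨U, hU, hs, e, he⟩ := h X S f hf s
  exact ⟨U, hU, hs, _, inferInstance, e, he⟩

end Groth.Agent.An.H898.HLPOf
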