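import Groth.Agent.An.H898.PiOne

/-!
# Vanishing of higher homotopy groups of the total space of a fibration
-/

set_option autoImplicit false

open unitInterval Topology

noncomputable section

namespace Groth.Agent.An.H898.PiHigh

open Groth.Agent.An.H898.PiOne

variable {E B : Type} [TopologicalSpace E] [TopologicalSpace B] {p : C(E, B)}

theorem homotopic_const (h : RelLift p) {n : ℕ} {x : E}
    (hB : Subsingleton (HomotopyGroup (Fin n) B (p x)))
    (hF : Subsingleton (HomotopyGroup (Fin n) ↥(p ⁻¹' {p x}) (base p x)))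
    (a : GenLoop (Fin n) E x) : GenLoop.Homotopic a GenLoop.const := by
  let b : GenLoop (Fin n) B (p x) := ⟨p.comp a.1, fun y hy => congrArg p (a.2 y hy)⟩
  have hb : GenLoop.Homotopic b GenLoop.const :=
    Quotient.exact (s := GenLoop.Homotopic.setoid (Fin n) (p x)) (hB.elim _ _)
  obtain ⟨G⟩ := hb
  obtain ⟨H, hH, hH0, hHC⟩ := h (Fin n → I) (Cube.boundary (Fin n)) a.1 G.toContinuousMap
    (fun k => G.apply_zero k) (fun k hk t => G.eq_fst t hk)
  let a' : GenLoop (Fin n) ↥(p ⁻¹' {p x}) (base p x) :=
    ⟨⟨fun k => ⟨H (1, k), (hH (1, k)).trans (G.apply_one k)⟩, by fun_prop⟩, fun y hy =>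
      Subtype.ext ((hHC y hy 1).trans (a.2 y hy))⟩
  have ha' : GenLoop.Homotopic a' GenLoop.const :=
    Quotient.exact (s := GenLoop.Homotopic.setoid (Fin n) (base p x)) (hF.elim _ _)
  obtain ⟨G'⟩ := ha'
  let H1 : ContinuousMap.HomotopyRel a.1 ((incl p (p x)).comp a'.1) (Cube.boundary (Fin n)) :=
    { toContinuousMap := H
      map_zero_left := hH0
      map_one_left := fun k => rfl
      prop' := fun t k hk => hHC k hk t }
  exact ⟨H1.trans (G'.compContinuousMap (incl p (p x)))⟩

theorem subsingleton (h : RelLift p) {n : ℕ} (x : E)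
    (hB : Subsingleton (HomotopyGroup (Fin n) B (p x)))
    (hF : Subsingleton (HomotopyGroup (Fin n) ↥(p ⁻¹' {p x}) (base p x))) :
    Subsingleton (HomotopyGroup (Fin n) E x) := by
  refine ⟨fun u v => ?_⟩
  induction u using Quotient.ind
  induction v using Quotient.ind
  exact (Quotient.sound (homotopic_const h hB hF _)).trans
    (Quotient.sound (homotopic_const h hB hF _)).symm

end Groth.Agent.An.H898.PiHigh
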