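import Groth.Agent.An.H898.CurvesPi
import Groth.Agent.An.H898.PiHigh

/-!
# Vanishing of the higher homotopy groups of good neighbourhoods
-/

set_option autoImplicit false
set_option linter.style.haveILetI false
open CategoryTheory AlgebraicGeometry Topology TopologicalSpace

namespace Groth.Agent.An.H898.TowerPi

open Groth.Agent.An.H898.PiOne Groth.Agent.An.H898.Assemble

theorem subsingleton_homotopyGroup_of_subsingleton (T : Type) [TopologicalSpace T]
    [Subsingleton T] (x : T) (n : ℕ) : Subsingleton (HomotopyGroup (Fin n) T x) := by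
  refine ⟨fun u v => ?_⟩
  induction u using Quotient.ind with
  | _ a =>
  induction v using Quotient.ind with
  | _ b =>
    have : a = b := by
      ext t
      exact Subsingleton.elim _ _
    rw [this]

theorem subsingleton_homotopyGroup (h1 : HLP) (n : ℕ) (hn : 2 ≤ n) {X S : Scheme.{0}} {e : X ⟶ S}
    (he : An.IsGoodNeighbourhood e) :
    ∀ (i : S ⟶ An.SC) [IsIso i] [X.Over An.SC] (_ : (X ↘ An.SC) = e ≫ i)
      (x : An.Pts X), Subsingleton (HomotopyGroup (Fin n) (An.Pts X) x) := by
  induction he with
  | @zero X S e _ =>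
    intro i _ inst h x
    have hi : IsIso (X ↘ An.SC) := by rw [h]; infer_instance
    have := subsingleton_pts_of_isIso (X := X)
    exact subsingleton_homotopyGroup_of_subsingleton _ _ _
  | @step X Y S f g hf hg ih =>
    intro i _ inst h x
    letI : Y.Over An.SC := ⟨g ≫ i⟩
    have hover : f.IsOver An.SC := ⟨by rw [h, Category.assoc]; rfl⟩
    have hgood : An.IsGoodNeighbourhood (Y ↘ An.SC) := comp_iso hg i
    have hgoodX : An.IsGoodNeighbourhood (X ↘ An.SC) := by
      rw [h, Category.assoc]
      exact An.IsGoodNeighbourhood.step f (g ≫ i) hf (comp_iso hg i)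
    have hsm : Smooth (Y ↘ An.SC) := smooth hgood
    have hsmX : Smooth (X ↘ An.SC) := smooth hgoodX
    exact PiHigh.subsingleton (h1 X Y f hf) x (ih i rfl _)
      (CurvesPi.subsingleton_homotopyGroup f hf (An.Pts.mapC f x) _ n hn)

theorem piTwo (h1 : HLP) : PiTwo := fun X _ _ hX _ x =>
  subsingleton_homotopyGroup h1 2 le_rfl hX (𝟙 An.SC) (by rw [Category.comp_id]) x

end Groth.Agent.An.H898.TowerPi
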